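import Cfsg.Agent.H849.RIM.DzCount
import Cfsg.Agent.H665.RIM.Defs

/-!
# S4816: characters of defect zero over a central character, the counting tool with all good classes

Variant of helper849's `exists_dz_quot` for a surjection `σ : G →* S` with central kernel, where the classes may be
arbitrary good classes.

* `good_of_comm`, `good_odd`, `good_cyc` : good elements;
* `setup` : Sylow subgroup and complement of `G` from the data in `S`;
* `main_le` : `w * F.card ≤ ∑_{θ ∈ Irr(K | c)} (e_θ ^ 2 + (p - 1))` if no character over `c` has degree divisible by `p`.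
-/

set_option autoImplicit false
set_option linter.unusedSectionVars false

namespace Cfsg.Agent.H667.RIM

open Cfsg Subgroup Finset
open Cfsg.Agent.Characters.Core
open Cfsg.Agent.SmallSimple.ThetaSetup Cfsg.Agent.SmallSimple.ThetaOrtho Cfsg.Agent.SmallSimple.ThetaCount
open Cfsg.Agent.SmallSimple.TheoremC Cfsg.Agent.SmallSimple.TheoremCCor
open Cfsg.Agent.SmallSimple.SingularCount
open Cfsg.Agent.H622.Over Cfsg.Agent.H849.RIM
open scoped ComplexConjugate

universe u v

section Good

variable {G : Type u} [Group G] [Finite G] {S : Type v} [Group S] {σ : G →* S}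

theorem comm_image {x g : G} (h : x⁻¹ * g⁻¹ * x * g ∈ σ.ker) : σ x * σ g = σ g * σ x := by
  rw [MonoidHom.mem_ker, map_mul, map_mul, map_mul, map_inv, map_inv] at h
  have h1 : (σ x)⁻¹ * ((σ g)⁻¹ * (σ x * σ g)) = 1 := by rw [← h]; group
  rw [inv_mul_eq_one] at h1
  rw [eq_inv_mul_iff_mul_eq] at h1
  exact h1.symm

/-- Elements commuting with everything with which they commute modulo the kernel are good. -/
theorem good_of_comm (c : σ.ker →* ℂˣ) {g : G} (h : ∀ x, σ x * σ g = σ g * σ x → x * g = g * x) :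
    Good σ.ker c g := by
  intro x hx
  have h1 := h x (comm_image hx)
  have h2 : x⁻¹ * g⁻¹ * x * g = 1 := by
    rw [mul_assoc, h1]
    group
  have h3 : (⟨x⁻¹ * g⁻¹ * x * g, hx⟩ : σ.ker) = 1 := Subtype.ext h2
  rw [h3, map_one]

theorem good_odd (hZ : σ.ker ≤ center G) (c : σ.ker →* ℂˣ) {g : G}
    (hco : (orderOf (σ g)).Coprime (Nat.card σ.ker)) : Good σ.ker c g := by
  refine good_of_coprime hZ c (n := orderOf (σ g)) ?_ hco
  rw [← QuotientGroup.mk_pow, QuotientGroup.eq_one_iff, MonoidHom.mem_ker, map_pow, pow_orderOf_eq_one]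

theorem exists_zpow_of_mem {t : S} {τ : G} (hτ : σ τ = t) {x : G}
    (hx : σ x ∈ zpowers t) : ∃ (i : ℤ), ∃ z ∈ σ.ker, x = τ ^ i * z := by
  obtain ⟨i, hi⟩ := mem_zpowers_iff.1 hx
  refine ⟨i, (τ ^ i)⁻¹ * x, ?_, by group⟩
  rw [MonoidHom.mem_ker, map_mul, map_inv, map_zpow, hτ, hi, inv_mul_cancel]

theorem good_cyc (hZ : σ.ker ≤ center G) (hσ : Function.Surjective σ) (c : σ.ker →* ℂˣ) {g : G} {t : S}
    (hg : σ g ∈ zpowers t) (hc : ∀ x : S, x * σ g = σ g * x → x ∈ zpowers t) : Good σ.ker c g := by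
  obtain ⟨τ, hτ⟩ := hσ t
  apply good_of_comm
  intro x hx
  obtain ⟨i, z, hz, e⟩ := exists_zpow_of_mem hτ (hc _ hx)
  obtain ⟨j, z', hz', e'⟩ := exists_zpow_of_mem hτ hg
  have c1 : ∀ y, y * z = z * y := fun y => mem_center_iff.1 (hZ hz) y
  have c2 : ∀ y, y * z' = z' * y := fun y => mem_center_iff.1 (hZ hz') y
  have c3 : τ ^ i * τ ^ j = τ ^ j * τ ^ i := by rw [← zpow_add, ← zpow_add, add_comm]
  have h1 : Commute (τ ^ i) (τ ^ j) := c3
  have h2 : Commute (τ ^ i) z' := c2 _
  have h3 : Commute z (τ ^ j) := (c1 _).symm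
  have h4 : Commute z z' := c2 _
  rw [e, e']
  exact ((h1.mul_right h2).mul_left (h3.mul_right h4)).eq

/-- **A lower bound for the number of characters over `c`**: good classes of `S`. -/
theorem card_le_over (hσ : Function.Surjective σ) (hZ : σ.ker ≤ center G) (c : σ.ker →* ℂˣ)
    (F : Finset (ConjClasses S)) (hF : ∀ C ∈ F, ∃ g : G, ConjClasses.mk (σ g) = C ∧ Good σ.ker c g) :
    F.card ≤ Nat.card {χ : IrrCharacter G // Lies σ.ker c (χ : G → ℂ)} := by
  classical
  rw [card_over hZ c, card_good hZ c]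
  let e : G ⧸ σ.ker ≃* S := QuotientGroup.quotientKerEquivOfSurjective σ hσ
  have he : ∀ g : G, e.symm (σ g) = (g : G ⧸ σ.ker) := fun g => by
    rw [MulEquiv.symm_apply_eq]
    rfl
  have hfin : Finite (ConjClasses (G ⧸ σ.ker)) :=
    Finite.of_surjective _ (ConjClasses.mk_surjective (α := G ⧸ σ.ker))
  have h0 : ∀ C : F, ∃ g : G, ConjClasses.mk (g : G ⧸ σ.ker) = ConjClasses.map e.symm.toMonoidHom C.1 ∧
      Good σ.ker c g := by
    rintro ⟨C, hC⟩
    obtain ⟨g, hg, hgood⟩ := hF C hC
    refine ⟨g, ?_, hgood⟩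
    show _ = ConjClasses.map e.symm.toMonoidHom C
    rw [← hg]
    show _ = ConjClasses.mk (e.symm (σ g))
    rw [he]
  have h1 : Nat.card F ≤ Nat.card {C : ConjClasses (G ⧸ σ.ker) // ∃ g : G,
      ConjClasses.mk (g : G ⧸ σ.ker) = C ∧ Good σ.ker c g} := by
    refine Nat.card_le_card_of_injective (fun C => ⟨ConjClasses.map e.symm.toMonoidHom C.1, h0 C⟩) ?_
    intro C D h
    have h2 : ConjClasses.map e.symm.toMonoidHom C.1 = ConjClasses.map e.symm.toMonoidHom D.1 := congrArg Subtype.val h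
    apply Subtype.ext
    obtain ⟨a, ha⟩ := ConjClasses.exists_rep C.1
    obtain ⟨b, hb⟩ := ConjClasses.exists_rep D.1
    rw [← ha, ← hb] at h2 ⊢
    have h3 : ConjClasses.mk (e.symm a) = ConjClasses.mk (e.symm b) := h2
    rw [ConjClasses.mk_eq_mk_iff_isConj] at h3 ⊢
    have h4 := e.toMonoidHom.map_isConj h3
    simpa using h4
  rwa [Nat.card_eq_fintype_card, Fintype.card_coe] at h1

end Good

section Setup

variable {G : Type u} [Group G] [Finite G] {p : ℕ} [Fact p.Prime] {S : Type v} [Group S] {σ : G →* S}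

/-- A lift of order `p`. -/
theorem exists_lift (hσ : Function.Surjective σ) (hZp : ¬ p ∣ Nat.card σ.ker) {y : S} (hy : orderOf y = p) :
    ∃ u : G, σ u = y ∧ orderOf u = p := by
  have hp : p.Prime := Fact.out
  obtain ⟨g, rfl⟩ := hσ y
  have hco : (Nat.card σ.ker).Coprime p := ((hp.coprime_iff_not_dvd).2 hZp).symm
  obtain ⟨a, -, ha⟩ := Nat.exists_mul_mod_eq_one_of_coprime hco hp.one_lt
  have hs : σ (g ^ (Nat.card σ.ker * a)) = σ g := by
    rw [map_pow, ← pow_mod_orderOf, hy, ha, pow_one]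
  refine ⟨g ^ (Nat.card σ.ker * a), hs, ?_⟩
  refine orderOf_eq_prime ?_ ?_
  · have h1 : g ^ p ∈ σ.ker := by
      rw [MonoidHom.mem_ker, map_pow, ← hy]
      exact pow_orderOf_eq_one _
    have h2 : (g ^ p) ^ Nat.card σ.ker = 1 := by
      have h3 := pow_card_eq_one' (G := σ.ker) (x := ⟨g ^ p, h1⟩)
      exact congrArg Subtype.val h3
    calc (g ^ (Nat.card σ.ker * a)) ^ p = ((g ^ p) ^ Nat.card σ.ker) ^ a := by
          rw [← pow_mul, ← pow_mul, ← pow_mul]; ring_nf
      _ = 1 := by rw [h2, one_pow]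
  · intro h1
    rw [h1, map_one] at hs
    rw [← hs, orderOf_one] at hy
    exact hp.one_lt.ne hy

/-- Elements which commute modulo the kernel with an element of order `p` commute with it. -/
theorem comm_of_comm (hZ : σ.ker ≤ center G) (hZp : ¬ p ∣ Nat.card σ.ker) {u : G}
    (hu : orderOf u = p) {x : G} {j : ℕ} (h : σ x * σ u * (σ x)⁻¹ = σ u ^ j) :
    x * u * x⁻¹ = u ^ j := by
  have hp : p.Prime := Fact.out
  have h1 : (u ^ j)⁻¹ * (x * u * x⁻¹) ∈ σ.ker := by
    rw [MonoidHom.mem_ker, map_mul, map_inv, map_pow, map_mul, map_mul, map_inv, h, inv_mul_cancel]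
  set z : G := (u ^ j)⁻¹ * (x * u * x⁻¹) with hz
  have h2 : x * u * x⁻¹ = u ^ j * z := by rw [hz]; group
  have hc : Commute (u ^ j) z := mem_center_iff.1 (hZ h1) _
  have h3 : z ^ p = 1 := by
    have h4 : (x * u * x⁻¹) ^ p = 1 := by rw [conj_pow, ← hu, pow_orderOf_eq_one, mul_one, mul_inv_cancel]
    have h5 : (u ^ j) ^ p = 1 := by rw [← pow_mul, mul_comm, pow_mul, ← hu, pow_orderOf_eq_one, one_pow]
    rw [h2, hc.mul_pow, h5, one_mul] at h4
    exact h4
  have h4 : z = 1 := by
    have h5 : orderOf (⟨z, h1⟩ : σ.ker) ∣ p := orderOf_dvd_of_pow_eq_one (Subtype.ext h3)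
    have h6 : orderOf (⟨z, h1⟩ : σ.ker) ∣ Nat.card σ.ker := _root_.orderOf_dvd_natCard _
    have h7 := Nat.eq_one_of_dvd_coprimes ((hp.coprime_iff_not_dvd).2 hZp) h5 h6
    exact congrArg Subtype.val (orderOf_eq_one_iff.1 h7)
  rw [h2, h4, mul_one]

theorem card_G (hσ : Function.Surjective σ) : Nat.card G = Nat.card S * Nat.card σ.ker := by
  rw [card_eq_card_quotient_mul_card_subgroup σ.ker,
    Nat.card_congr (QuotientGroup.quotientKerEquivOfSurjective σ hσ).toEquiv]

theorem card_comap (hσ : Function.Surjective σ) (T : Subgroup S) :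
    Nat.card (T.comap σ) = Nat.card T * Nat.card σ.ker := by
  have hfS : Finite S := Finite.of_surjective σ hσ
  have h1 := Subgroup.index_comap_of_surjective T hσ
  have h2 := (T.comap σ).card_mul_index
  have h3 := T.card_mul_index
  have h4 := card_G hσ
  rw [h1] at h2
  have h5 : 0 < T.index := Nat.pos_of_ne_zero index_ne_zero_of_finite
  apply Nat.eq_of_mul_eq_mul_right h5
  rw [h2, h4, ← h3]
  ring

/-- **The Sylow subgroup and its complement.** -/
theorem setup (hσ : Function.Surjective σ) (hZ : σ.ker ≤ center G) (hZp : ¬ p ∣ Nat.card σ.ker)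
    (hsq : ¬ p ^ 2 ∣ Nat.card S) {y : S} (hy : orderOf y = p) {k w : ℕ}
    (hC : Nat.card (centralizer ({y} : Set S)) = p * k)
    (hN : Nat.card (normalizer ((zpowers y : Subgroup S) : Set S)) = w * (p * k)) :
    ∃ (P : Sylow p G) (K : Subgroup G), IsComp p (P : Subgroup G) K ∧ Nat.card P = p ∧
      Nat.card K = k * Nat.card σ.ker ∧ σ.ker ≤ K ∧
      (centralizer ((P : Subgroup G) : Set G)).relIndex (normalizer ((P : Subgroup G) : Set G)) = w ∧
      centralizer ((P : Subgroup G) : Set G) = (centralizer ({y} : Set S)).comap σ ∧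
      normalizer ((P : Subgroup G) : Set G) = (normalizer ((zpowers y : Subgroup S) : Set S)).comap σ := by
  classical
  have hp : p.Prime := Fact.out
  have hfS : Finite S := Finite.of_surjective σ hσ
  obtain ⟨u, rfl, hu⟩ := exists_lift hσ hZp hy
  -- the Sylow subgroup
  have hcG := card_G hσ
  have hG2 : ¬ p ^ 2 ∣ Nat.card G := by
    rw [hcG]
    intro h
    have hco : (p ^ 2).Coprime (Nat.card σ.ker) := Nat.Coprime.pow_left 2 ((hp.coprime_iff_not_dvd).2 hZp)
    exact hsq (hco.dvd_of_dvd_mul_right h)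
  have hzp : IsPGroup p (zpowers u) := IsPGroup.of_card (n := 1) (by rw [Nat.card_zpowers, hu, pow_one])
  obtain ⟨P, hPle⟩ := hzp.exists_le_sylow
  have hP : Nat.card P = p := by
    obtain ⟨n, hn⟩ := (IsPGroup.iff_card).1 P.2
    have h1 : Nat.card P ∣ Nat.card G := card_subgroup_dvd_card _
    have h2 : n < 2 := by
      by_contra h3
      push Not at h3
      exact hG2 ((pow_dvd_pow p h3).trans (hn ▸ h1))
    have h3 : p ∣ Nat.card P := by
      have := card_dvd_of_le hPle
      rwa [Nat.card_zpowers, hu] at this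
    interval_cases n
    · rw [hn, pow_zero, Nat.dvd_one] at h3
      exact absurd h3 hp.one_lt.ne'
    · rw [hn, pow_one]
  have hPz : (P : Subgroup G) = zpowers u := by
    symm
    refine eq_of_le_of_card_ge hPle ?_
    rw [Nat.card_zpowers, hu]
    exact hP.le
  obtain ⟨K, hK⟩ := exists_isComp P hP
  have huP : u ∈ (P : Subgroup G) := hPle (mem_zpowers u)
  have hu1 : u ≠ 1 := by
    rintro rfl
    rw [orderOf_one] at hu
    exact hp.one_lt.ne hu
  have hCP : centralizer ((P : Subgroup G) : Set G) = centralizer ({u} : Set G) :=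
    (Blocks.CyclicOrtho.centralizer_eq P hP huP hu1).symm
  -- the centralizer
  have hcent : centralizer ((P : Subgroup G) : Set G) = (centralizer ({σ u} : Set S)).comap σ := by
    rw [hCP]
    ext x
    rw [mem_centralizer_singleton_iff, mem_comap, mem_centralizer_singleton_iff]
    constructor
    · intro h
      have := congrArg σ h
      simpa using this
    · intro h
      have h1 : σ x * σ u * (σ x)⁻¹ = σ u ^ 1 := by
        rw [h, mul_inv_cancel_right, pow_one]
      have h2 := comm_of_comm hZ hZp hu h1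
      rw [pow_one, mul_inv_eq_iff_eq_mul] at h2
      exact h2
  have hnorm : normalizer ((P : Subgroup G) : Set G) = (normalizer ((zpowers (σ u) : Subgroup S) : Set S)).comap σ := by
    have hPm : (P : Subgroup G).map σ = zpowers (σ u) := by
      rw [hPz, MonoidHom.map_zpowers]
    apply le_antisymm
    · intro x hx
      rw [mem_comap, ← hPm]
      exact Subgroup.le_normalizer_map _ (mem_map_of_mem _ hx)
    · intro x hx
      rw [mem_comap] at hx
      have h1 : σ x * σ u * (σ x)⁻¹ ∈ zpowers (σ u) := (mem_normalizer_iff.1 hx (σ u)).1 (mem_zpowers _)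
      obtain ⟨j, hj⟩ := mem_powers_iff_mem_zpowers.2 h1
      have h2 := comm_of_comm hZ hZp hu (x := x) (j := j) hj.symm
      refine mem_normalizer_fintype fun n hn => ?_
      have hn' : n ∈ zpowers u := by rw [← hPz]; exact hn
      obtain ⟨i, rfl⟩ := mem_powers_iff_mem_zpowers.2 hn'
      show x * u ^ i * x⁻¹ ∈ (P : Subgroup G)
      rw [← conj_pow, h2, hPz]
      exact pow_mem (pow_mem (mem_zpowers u) j) i
  have hcC : Nat.card (centralizer ((P : Subgroup G) : Set G)) = p * k * Nat.card σ.ker := by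
    rw [hcent, card_comap hσ, hC]
  have hcN : Nat.card (normalizer ((P : Subgroup G) : Set G)) = w * (p * k) * Nat.card σ.ker := by
    rw [hnorm, card_comap hσ, hN]
  have hcK : Nat.card K = k * Nat.card σ.ker := by
    have h1 : Nat.card P * Nat.card K = Nat.card (centralizer ((P : Subgroup G) : Set G)) := by
      rw [← Nat.card_prod]
      exact Nat.card_congr (prodEquiv hK hP).toEquiv
    rw [hP, hcC, mul_assoc] at h1
    exact Nat.eq_of_mul_eq_mul_left hp.pos h1
  have hZK : σ.ker ≤ K := by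
    intro z hz
    rw [hK]
    refine ⟨?_, fun h => hZp ?_⟩
    · rw [mem_centralizer_iff]
      intro g _
      exact mem_center_iff.1 (hZ hz) g
    · have h1 := _root_.orderOf_dvd_natCard (⟨z, hz⟩ : σ.ker)
      rw [← orderOf_submonoid] at h1
      exact h.trans h1
  have hk0 : 0 < k := by
    rcases Nat.eq_zero_or_pos k with h | h
    · rw [h, zero_mul] at hcK
      exact absurd hcK Nat.card_pos.ne'
    · exact h
  have hw : (centralizer ((P : Subgroup G) : Set G)).relIndex (normalizer ((P : Subgroup G) : Set G)) = w := by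
    have h1 : centralizer ((P : Subgroup G) : Set G) ≤ normalizer ((P : Subgroup G) : Set G) :=
      centralizer_le_normalizer _
    have h2 := Subgroup.card_mul_index ((centralizer ((P : Subgroup G) : Set G)).subgroupOf
      (normalizer ((P : Subgroup G) : Set G)))
    rw [Nat.card_congr (subgroupOfEquivOfLe h1).toEquiv, hcC, hcN] at h2
    have h3 : 0 < p * k * Nat.card σ.ker := Nat.mul_pos (Nat.mul_pos hp.pos hk0) Nat.card_pos
    rw [Subgroup.relIndex]
    apply Nat.eq_of_mul_eq_mul_left h3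
    rw [h2]
    ring
  exact ⟨P, K, hK, hP, hcK, hZK, hw, hcent, hnorm⟩

/-- a character vanishing on the `p`-singular elements has degree divisible by `p` -/
theorem dvd_of_zero {P : Sylow p G} (hP : Nat.card P = p) {χ : IrrCharacter G}
    (h0 : ∀ g : G, p ∣ orderOf g → (χ : G → ℂ) g = 0) : p ∣ charDegree (χ : G → ℂ) := by
  obtain ⟨d, hd⟩ := exists_degree_eq (P : Subgroup G) (isIrr_isCharacter χ.2) fun x hx hx1 => h0 x (by
    rw [Blocks.CyclicOrtho.orderOf_eq P hP hx hx1])
  rw [hP] at hd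
  refine ⟨d, ?_⟩
  have h1 : ((charDegree (χ : G → ℂ) : ℕ) : ℂ) = ((p * d : ℕ) : ℂ) := by
    obtain ⟨n, hn⟩ := isCharacter_apply_one (isIrr_isCharacter χ.2)
    unfold charDegree
    rw [hn, Complex.natCast_re, Nat.floor_natCast, ← hn, hd]
    push_cast
    ring
  exact_mod_cast h1

/-- **The inequality.** -/
theorem main_le {P : Sylow p G} {K : Subgroup G} (hK : IsComp p (P : Subgroup G) K) (hP : Nat.card P = p)
    (hσ : Function.Surjective σ) (hZ : σ.ker ≤ center G) (hZK : σ.ker ≤ K) {c : σ.ker →* ℂˣ} {w : ℕ}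
    (hw : (centralizer ((P : Subgroup G) : Set G)).relIndex (normalizer ((P : Subgroup G) : Set G)) = w)
    (A : Finset (IrrCharacter K)) (hA : ∀ θ : IrrCharacter K, LiesK σ.ker c K (θ : K → ℂ) → θ ∈ A)
    (hno : ∀ χ : IrrCharacter G, Lies σ.ker c (χ : G → ℂ) → ¬ p ∣ charDegree (χ : G → ℂ))
    (F : Finset (ConjClasses S)) (hF : ∀ C ∈ F, ∃ g : G, ConjClasses.mk (σ g) = C ∧ Good σ.ker c g) :
    w * F.card ≤ ∑ θ ∈ A, (Nat.card (stabAct hK (θ : K → ℂ)) ^ 2 + (p - 1)) := by
  classical
  have := finite_irr (G := G)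
  have := Fintype.ofFinite (IrrCharacter G)
  have h1 := card_mul_le hK hP hZ hZK hw A hA
    (Finset.univ.filter fun χ : IrrCharacter G => Lies σ.ker c (χ : G → ℂ))
    (fun χ hχ => ⟨(mem_filter.1 hχ).2, by
      by_contra hcon
      refine hno χ (mem_filter.1 hχ).2 (dvd_of_zero hP fun g hg => ?_)
      by_contra hne
      exact hcon ⟨g, hg, hne⟩⟩)
  have h2 := card_le_over hσ hZ c F hF
  rw [Nat.card_eq_fintype_card, Fintype.card_subtype] at h2
  exact (Nat.mul_le_mul_left w h2).trans h1

end Setup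

end Cfsg.Agent.H667.RIM
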