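import Cfsg.Agent.H667.RIM.Dz

/-!
# S4816: defect zero over a central character, `C(P) = P × K`, `|K : Z| = 1` or `4`

* `exists_of_lt` : the simple bound;
* `exists_four` : `K / Z` of order `4`, an element `s` of order 3 of the normalizer permutes the three involutions.
-/

set_option autoImplicit false
set_option linter.unusedSectionVars false

namespace Cfsg.Agent.H667.RIM

open Cfsg Subgroup Finset
open Cfsg.Agent.Characters.Core
open Cfsg.Agent.SmallSimple.ThetaSetup Cfsg.Agent.SmallSimple.ThetaOrtho Cfsg.Agent.SmallSimple.ThetaCount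
open Cfsg.Agent.SmallSimple.TheoremC Cfsg.Agent.SmallSimple.TheoremCCor
open Cfsg.Agent.SmallSimple.SingularCount
open Cfsg.Agent.H622.Over Cfsg.Agent.H849.RIM
open scoped ComplexConjugate

universe u v

section NonAb

variable {G : Type u} [Group G] [Finite G]

/-- an extension of degree `4` of a central subgroup, a central element outside: abelian -/
theorem comm_of_center {K : Type u} [Group K] [Finite K] {Z : Subgroup K} (hZ : Z ≤ center K) (hi : Z.index = 4)
    {g : K} (hg : g ∈ center K) (hgZ : g ∉ Z) (a b : K) : a * b = b * a := by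
  have h1 : (center K).index ∣ 4 := by rw [← hi]; exact index_dvd_of_le hZ
  have h2 : (center K).index ≠ 4 := by
    intro h
    have h3 := relIndex_mul_index hZ
    rw [h, hi] at h3
    have h4 : Z.relIndex (center K) = 1 := by omega
    rw [relIndex_eq_one] at h4
    exact hgZ (h4 hg)
  have h3 : (center K).index = 1 ∨ (center K).index = 2 := by
    have h4 := Nat.le_of_dvd (by norm_num) h1
    interval_cases h : (center K).index <;> omega
  rcases h3 with h3 | h3
  · rw [index_eq_one] at h3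
    have ha : a ∈ center K := by rw [h3]; trivial
    exact ((mem_center_iff.1 ha) b).symm
  · by_cases ha : a ∈ center K
    · exact ((mem_center_iff.1 ha) b).symm
    by_cases hb : b ∈ center K
    · exact (mem_center_iff.1 hb) a
    have h4 : a * b ∈ center K := by
      rw [mul_mem_iff_of_index_two h3]
      exact ⟨fun h => absurd h ha, fun h => absurd h hb⟩
    have h5 := (mem_center_iff.1 h4) b
    -- `b (a b) = (a b) b`
    rw [← mul_assoc] at h5
    exact (mul_right_cancel h5).symm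

/-- **Non-abelian complement**: at most one character over `c`. -/
theorem card_le_one {Z K : Subgroup G} (hZ : Z ≤ center G) (hZK : Z ≤ K) {c : Z →* ℂˣ} (hc : Function.Injective c)
    (hk : Nat.card K = 4 * Nat.card Z) (hna : ¬ ∀ a b : K, a * b = b * a) (A : Finset (IrrCharacter K))
    (hA : ∀ θ ∈ A, LiesK Z c K (θ : K → ℂ)) : A.card ≤ 1 := by
  classical
  have hZ' : Z.subgroupOf K ≤ center K := by
    intro z hz
    rw [mem_center_iff]
    intro y
    exact Subtype.ext (mem_center_iff.1 (hZ (mem_subgroupOf.1 hz)) y)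
  have hnorm : (Z.subgroupOf K).Normal := by
    refine ⟨fun z hz y => ?_⟩
    have h1 := mem_center_iff.1 (hZ' hz) y
    rw [h1, mul_inv_cancel_right]
    exact hz
  have hcZ : Nat.card (Z.subgroupOf K) = Nat.card Z := Nat.card_congr (subgroupOfEquivOfLe hZK).toEquiv
  have hi : (Z.subgroupOf K).index = 4 := by
    have h := (Z.subgroupOf K).card_mul_index
    rw [hcZ, hk, mul_comm] at h
    exact Nat.eq_of_mul_eq_mul_right Nat.card_pos h
  let c' : Z.subgroupOf K →* ℂˣ := c.comp (subgroupOfEquivOfLe hZK).toMonoidHom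
  have hc' : Function.Injective c' := hc.comp (subgroupOfEquivOfLe hZK).injective
  have h1 := card_over hZ' c'
  rw [card_good hZ' c'] at h1
  have hfin : Finite (IrrCharacter K) := finite_irr
  have := Fintype.ofFinite (IrrCharacter K)
  have h2 : A.card ≤ Nat.card {χ : IrrCharacter K // Lies (Z.subgroupOf K) c' (χ : K → ℂ)} := by
    have h3 : (A : Set (IrrCharacter K)) ⊆ {χ : IrrCharacter K | Lies (Z.subgroupOf K) c' (χ : K → ℂ)} := by
      intro θ hθ y z
      have h4 := hA θ (mem_coe.1 hθ) y (y * z) ⟨((z : K) : G), mem_subgroupOf.1 z.2⟩ rfl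
      exact h4
    have h4 := Set.ncard_le_ncard h3 (Set.toFinite _)
    rw [Set.ncard_coe_finset] at h4
    exact h4
  rw [h1] at h2
  refine h2.trans ?_
  -- all commutators are in `Z`
  have hq : ∀ a b : K ⧸ Z.subgroupOf K, a * b = b * a := by
    have h := IsPGroup.isMulCommutative_of_card_eq_prime_sq (p := 2) (G := K ⧸ Z.subgroupOf K) (by
      rw [← Subgroup.index_eq_card, hi]; norm_num)
    exact h.is_comm.comm
  have hgood : ∀ g : K, Good (Z.subgroupOf K) c' g → g ∈ Z.subgroupOf K := by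
    intro g hg
    by_contra hgZ
    refine hna (comm_of_center hZ' hi (g := g) ?_ hgZ)
    rw [mem_center_iff]
    intro x
    have h3 : x⁻¹ * g⁻¹ * x * g ∈ Z.subgroupOf K := by
      rw [← QuotientGroup.eq_one_iff, QuotientGroup.mk_mul, QuotientGroup.mk_mul, QuotientGroup.mk_mul,
        QuotientGroup.mk_inv, QuotientGroup.mk_inv, hq (x : K ⧸ Z.subgroupOf K)⁻¹ (g : K ⧸ Z.subgroupOf K)⁻¹]
      group
    have h4 := hg x h3
    have h5 : (⟨x⁻¹ * g⁻¹ * x * g, h3⟩ : Z.subgroupOf K) = 1 := hc' (by rw [h4, map_one])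
    have h6 : x⁻¹ * g⁻¹ * x * g = 1 := congrArg Subtype.val h5
    have h7 : x⁻¹ * (g⁻¹ * (x * g)) = 1 := by rw [← h6]; group
    rw [inv_mul_eq_one] at h7
    rw [eq_inv_mul_iff_mul_eq] at h7
    exact h7.symm
  have hsub : Subsingleton {C : ConjClasses (K ⧸ Z.subgroupOf K) // ∃ g : K,
      ConjClasses.mk (g : K ⧸ Z.subgroupOf K) = C ∧ Good (Z.subgroupOf K) c' g} := by
    constructor
    rintro ⟨C, g, hg, hgg⟩ ⟨D, h, hh, hhg⟩
    apply Subtype.ext
    show C = D
    rw [← hg, ← hh, (QuotientGroup.eq_one_iff g).2 (hgood g hgg), (QuotientGroup.eq_one_iff h).2 (hgood h hhg)]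
  exact Finite.card_le_one_iff_subsingleton.2 hsub

end NonAb

section Ab

variable {G : Type u} [Group G] [Finite G] {p : ℕ} [Fact p.Prime] {P : Sylow p G} {K : Subgroup G}

theorem lin_of_comm (hab : ∀ a b : K, a * b = b * a) (θ : IrrCharacter K) :
    ∃ d : K →* ℂˣ, ∀ y, (θ : K → ℂ) y = d y := by
  obtain ⟨d, hd⟩ := Characters.Linear.exists_hom_of_isIrrCharacter θ.2
    (Characters.CCBasic.irr_apply_one_of_comm hab θ.2)
  exact ⟨d, fun y => by rw [hd]⟩

theorem three_le_card {S : Type v} [Group S] [Finite S] {T : Subgroup S} {x y : S} (hx : x ∈ T) (hy : y ∈ T)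
    (h1 : x ≠ 1) (h2 : y ≠ 1) (h3 : x ≠ y) : 3 ≤ Nat.card T := by
  classical
  have := Fintype.ofFinite T
  have hc : ({1, ⟨x, hx⟩, ⟨y, hy⟩} : Finset T).card = 3 := by
    rw [card_insert_of_notMem, card_insert_of_notMem, card_singleton]
    · rw [Finset.mem_singleton]
      exact fun h => h3 (congrArg Subtype.val h)
    · rw [Finset.mem_insert, Finset.mem_singleton, not_or]
      exact ⟨fun h => h1 (congrArg Subtype.val h).symm, fun h => h2 (congrArg Subtype.val h).symm⟩
  rw [Nat.card_eq_fintype_card, ← hc]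
  exact Finset.card_le_univ _

/-- **Abelian complement**: at most one character over `c` is fixed by `s`. -/
theorem eq_of_fixed (hK : IsComp p (P : Subgroup G) K) {S : Type v} [Group S] {σ : G →* S}
    (hσ : Function.Surjective σ) (hZK : σ.ker ≤ K)
    (hk : Nat.card K = 4 * Nat.card σ.ker) (hab : ∀ a b : K, a * b = b * a) {c : σ.ker →* ℂˣ}
    {s : G} (hs : s ∈ normalizer ((P : Subgroup G) : Set G)) {a : G} (ha : a ∈ K) (h1 : σ a ≠ 1)
    (h2 : σ s * σ a * (σ s)⁻¹ ≠ σ a)
    (h3 : σ s * (σ s * σ a * (σ s)⁻¹) * (σ s)⁻¹ = σ a * (σ s * σ a * (σ s)⁻¹))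
    {θ θ' : IrrCharacter K} (hθ : LiesK σ.ker c K (θ : K → ℂ)) (hθ' : LiesK σ.ker c K (θ' : K → ℂ))
    (hf : tw (θ : K → ℂ) s = θ) (hf' : tw (θ' : K → ℂ) s = θ') : θ = θ' := by
  classical
  obtain ⟨d, hd⟩ := lin_of_comm hab θ
  obtain ⟨d', hd'⟩ := lin_of_comm hab θ'
  have hcard := card_G hσ
  -- `r = d' / d`
  have hfd : ∀ y : K, d ⟨s * y * s⁻¹, conj_mem hK hs y.2⟩ = d y := by
    intro y
    have h := congrFun hf y
    rw [tw_apply hK _ hs, hd, hd] at h
    exact Units.ext h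
  have hfd' : ∀ y : K, d' ⟨s * y * s⁻¹, conj_mem hK hs y.2⟩ = d' y := by
    intro y
    have h := congrFun hf' y
    rw [tw_apply hK _ hs, hd', hd'] at h
    exact Units.ext h
  have hz : ∀ z : K, (z : G) ∈ σ.ker → d z = d' z := by
    intro z hz
    have e1 := hθ 1 z ⟨z, hz⟩ (by simp)
    have e2 := hθ' 1 z ⟨z, hz⟩ (by simp)
    rw [hd, hd, map_one] at e1
    rw [hd', hd', map_one] at e2
    exact Units.ext (e1.trans e2.symm)
  set b : G := s * a * s⁻¹ with hb
  have hbK : b ∈ K := conj_mem hK hs ha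
  have hσb : σ b = σ s * σ a * (σ s)⁻¹ := by rw [hb, map_mul, map_mul, map_inv]
  -- the subgroup where `d = d'`
  let R : Subgroup K := { carrier := {y | d y = d' y}
                          mul_mem' := fun {x y} hx hy => by
                            show d (x * y) = d' (x * y)
                            rw [map_mul, map_mul, show d x = d' x from hx, show d y = d' y from hy]
                          one_mem' := by show d 1 = d' 1; rw [map_one, map_one]
                          inv_mem' := fun {x} hx => by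
                            show d x⁻¹ = d' x⁻¹
                            rw [map_inv, map_inv, show d x = d' x from hx] }
  have haR : (⟨a, ha⟩ : K) ∈ R := by
    have e1 := hfd ⟨a, ha⟩
    have e1' := hfd' ⟨a, ha⟩
    have e2 := hfd ⟨b, hbK⟩
    have e2' := hfd' ⟨b, hbK⟩
    -- `s b s⁻¹ = a b z`
    have hz1 : (a * b)⁻¹ * (s * b * s⁻¹) ∈ σ.ker := by
      have hsb : σ (s * b * s⁻¹) = σ s * σ b * (σ s)⁻¹ := by rw [map_mul, map_mul, map_inv]
      rw [MonoidHom.mem_ker, map_mul, map_inv, hsb, map_mul, hσb, h3, inv_mul_cancel]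
    have e3 : (⟨s * b * s⁻¹, conj_mem hK hs hbK⟩ : K) = ⟨a, ha⟩ * ⟨b, hbK⟩ * ⟨_, hZK hz1⟩ := by
      apply Subtype.ext
      show s * b * s⁻¹ = a * b * ((a * b)⁻¹ * (s * b * s⁻¹))
      group
    have e4 := hz ⟨_, hZK hz1⟩ hz1
    have e5 : d ⟨b, hbK⟩ = d ⟨a, ha⟩ := e1
    have e5' : d' ⟨b, hbK⟩ = d' ⟨a, ha⟩ := e1'
    have e6 : d (⟨a, ha⟩ * ⟨b, hbK⟩ * ⟨_, hZK hz1⟩) = d ⟨b, hbK⟩ := by rw [← e3]; exact e2
    have e6' : d' (⟨a, ha⟩ * ⟨b, hbK⟩ * ⟨_, hZK hz1⟩) = d' ⟨b, hbK⟩ := by rw [← e3]; exact e2'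
    rw [map_mul, map_mul, e5] at e6
    rw [map_mul, map_mul, e5', ← e4] at e6'
    have e7 : d ⟨a, ha⟩ * d ⟨_, hZK hz1⟩ = 1 := by
      have : d ⟨a, ha⟩ * (d ⟨a, ha⟩ * d ⟨_, hZK hz1⟩) = d ⟨a, ha⟩ * 1 := by rw [mul_one, ← mul_assoc]; exact e6
      exact mul_left_cancel this
    have e7' : d' ⟨a, ha⟩ * d ⟨_, hZK hz1⟩ = 1 := by
      have : d' ⟨a, ha⟩ * (d' ⟨a, ha⟩ * d ⟨_, hZK hz1⟩) = d' ⟨a, ha⟩ * 1 := by rw [mul_one, ← mul_assoc]; exact e6'
      exact mul_left_cancel this
    show d ⟨a, ha⟩ = d' ⟨a, ha⟩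
    exact mul_right_cancel (e7.trans e7'.symm)
  have hbR : (⟨b, hbK⟩ : K) ∈ R := by
    have e1 : d ⟨b, hbK⟩ = d ⟨a, ha⟩ := hfd ⟨a, ha⟩
    have e1' : d' ⟨b, hbK⟩ = d' ⟨a, ha⟩ := hfd' ⟨a, ha⟩
    show d ⟨b, hbK⟩ = d' ⟨b, hbK⟩
    rw [e1, e1']
    exact haR
  -- `R = K`
  have hRtop : R = ⊤ := by
    set R' : Subgroup G := R.map K.subtype with hR'
    have hZR : σ.ker ≤ R' := by
      intro z hz'
      exact ⟨⟨z, hZK hz'⟩, hz _ hz', rfl⟩
    have hR'K : R' ≤ K := by
      rintro _ ⟨y, _, rfl⟩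
      exact y.2
    have hcR : Nat.card R' = Nat.card (R'.map σ) * Nat.card σ.ker := by
      have : R' = (R'.map σ).comap σ := (comap_map_eq_self hZR).symm
      conv_lhs => rw [this]
      exact card_comap hσ _
    have hcK : Nat.card K = Nat.card (K.map σ) * Nat.card σ.ker := by
      have : K = (K.map σ).comap σ := (comap_map_eq_self hZK).symm
      conv_lhs => rw [this]
      exact card_comap hσ _
    have h4 : Nat.card (K.map σ) = 4 := by
      rw [hk] at hcK
      exact (Nat.eq_of_mul_eq_mul_right Nat.card_pos hcK).symm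
    have hfS : Finite S := Finite.of_surjective σ hσ
    have hle : R'.map σ ≤ K.map σ := Subgroup.map_mono hR'K
    have hdv : Nat.card (R'.map σ) ∣ 4 := by rw [← h4]; exact card_dvd_of_le hle
    have ha' : σ a ∈ R'.map σ := ⟨a, ⟨_, haR, rfl⟩, rfl⟩
    have hb' : σ b ∈ R'.map σ := ⟨b, ⟨_, hbR, rfl⟩, rfl⟩
    have h5 : 3 ≤ Nat.card (R'.map σ) := by
      refine three_le_card ha' hb' h1 ?_ ?_
      · rw [hσb]
        intro h'
        apply h1
        have h'' : (σ s)⁻¹ * (σ s * σ a * (σ s)⁻¹) * σ s = 1 := by rw [h']; group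
        rw [← h'']; group
      · rw [hσb]
        exact fun h' => h2 h'.symm
    have h6 : Nat.card (R'.map σ) = 4 := by
      have := Nat.le_of_dvd (by norm_num) hdv
      interval_cases h : Nat.card (R'.map σ) <;> omega
    have h7 : R' = K := by
      apply eq_of_le_of_card_ge hR'K
      rw [hcR, h6, hk]
    rw [eq_top_iff]
    intro y _
    have hy : (y : G) ∈ R' := by rw [h7]; exact y.2
    obtain ⟨x, hx, hxy⟩ := hy
    have : x = y := Subtype.ext hxy
    rw [← this]
    exact hx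
  apply Subtype.ext
  funext y
  have hy : y ∈ R := by rw [hRtop]; trivial
  rw [hd, hd', show d y = d' y from hy]

/-- a character which is not fixed by `s`, `s ^ 3` acts trivially: orbit of length at least `3` -/
theorem three_le_orb (hK : IsComp p (P : Subgroup G) K) {s : G} (hs : s ∈ normalizer ((P : Subgroup G) : Set G))
    {θ : IrrCharacter K} (h3 : tw (θ : K → ℂ) (s ^ 3) = θ) (hne : tw (θ : K → ℂ) s ≠ θ) :
    3 ≤ (orb P K (θ : K → ℂ)).card := by
  classical
  have hs2 : s * s ∈ normalizer ((P : Subgroup G) : Set G) := mul_mem hs hs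
  let θ1 : IrrCharacter K := ⟨tw (θ : K → ℂ) s, isIrr_tw hK θ.2 hs⟩
  let θ2 : IrrCharacter K := ⟨tw (θ : K → ℂ) (s * s), isIrr_tw hK θ.2 hs2⟩
  have e2 : (θ2 : K → ℂ) = tw (tw (θ : K → ℂ) s) s := tw_mul hK _ hs hs
  have e3 : tw (θ2 : K → ℂ) s = θ := by
    have : s ^ 3 = s * s * s := by rw [pow_succ, pow_two]
    rw [this, tw_mul hK _ hs2 hs] at h3
    exact h3
  have hm : ({θ, θ1, θ2} : Finset (IrrCharacter K)) ⊆ orb P K (θ : K → ℂ) := by
    intro ψ hψ
    rw [mem_insert, mem_insert, mem_singleton] at hψ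
    rw [mem_orb]
    rcases hψ with rfl | rfl | rfl
    · exact ⟨1, one_mem _, tw_one _⟩
    · exact ⟨s, hs, rfl⟩
    · exact ⟨s * s, hs2, rfl⟩
  have n1 : θ ≠ θ1 := fun h => hne (congrArg Subtype.val h).symm
  have n2 : θ1 ≠ θ2 := by
    intro h
    have h' : (θ1 : K → ℂ) = θ2 := congrArg Subtype.val h
    -- apply `tw · s`
    have h4 : tw (θ1 : K → ℂ) s = tw (θ2 : K → ℂ) s := by rw [h']
    rw [e3] at h4
    have h5 : (θ2 : K → ℂ) = θ := by rw [e2]; exact h4
    have h6 : (θ1 : K → ℂ) = θ := h'.trans h5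
    exact hne h6
  have n3 : θ ≠ θ2 := by
    intro h
    have h' : (θ : K → ℂ) = θ2 := congrArg Subtype.val h
    have h4 : tw (θ : K → ℂ) s = tw (θ2 : K → ℂ) s := by rw [← h']
    rw [e3] at h4
    exact hne h4
  have hc : ({θ, θ1, θ2} : Finset (IrrCharacter K)).card = 3 := by
    rw [card_insert_of_notMem, card_insert_of_notMem, card_singleton]
    · rw [mem_singleton]; exact n2
    · rw [mem_insert, mem_singleton, not_or]; exact ⟨n1, n3⟩
  rw [← hc]
  exact card_le_card hm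

/-- **The sum, abelian complement.** -/
theorem sum_le_ab (hK : IsComp p (P : Subgroup G) K) (hP : Nat.card P = p) {S : Type v} [Group S] {σ : G →* S}
    (hσ : Function.Surjective σ) (hZ : σ.ker ≤ center G) (hZK : σ.ker ≤ K)
    (hk : Nat.card K = 4 * Nat.card σ.ker) (hab : ∀ a b : K, a * b = b * a) {c : σ.ker →* ℂˣ} {w : ℕ} (hw0 : 0 < w)
    (hw : (centralizer ((P : Subgroup G) : Set G)).relIndex (normalizer ((P : Subgroup G) : Set G)) = w)
    {s : G} (hs : s ∈ normalizer ((P : Subgroup G) : Set G)) (hs3 : σ s ^ 3 = 1) {a : G} (ha : a ∈ K) (h1 : σ a ≠ 1)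
    (h2 : σ s * σ a * (σ s)⁻¹ ≠ σ a)
    (h3 : σ s * (σ s * σ a * (σ s)⁻¹) * (σ s)⁻¹ = σ a * (σ s * σ a * (σ s)⁻¹))
    (A : Finset (IrrCharacter K)) (hA : ∀ θ ∈ A, LiesK σ.ker c K (θ : K → ℂ)) :
    ∑ θ ∈ A, (Nat.card (stabAct hK (θ : K → ℂ)) ^ 2 + (p - 1)) ≤ (w ^ 2 + (p - 1)) + 3 * ((w / 3) ^ 2 + (p - 1)) := by
  classical
  have hA4 : A.card ≤ 4 := card_liesK_le hZ hZK c hk A hA
  have hsK : ∀ θ : IrrCharacter K, tw (θ : K → ℂ) (s ^ 3) = θ := by
    intro θ
    have hz : s ^ 3 ∈ σ.ker := by rw [MonoidHom.mem_ker, map_pow, hs3]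
    funext y
    rw [tw_apply hK _ (pow_mem hs 3)]
    refine congrArg (θ : K → ℂ) (Subtype.ext ?_)
    show s ^ 3 * (y : G) * (s ^ 3)⁻¹ = y
    have := mem_center_iff.1 (hZ hz) y
    rw [← this, mul_inv_cancel_right]
  set B : Finset (IrrCharacter K) := A.filter fun θ : IrrCharacter K => tw (θ : K → ℂ) s = (θ : K → ℂ) with hB
  have hB1 : B.card ≤ 1 := by
    rw [Finset.card_le_one]
    intro θ hθ θ' hθ'
    rw [hB, mem_filter] at hθ hθ'
    exact eq_of_fixed hK hσ hZK hk hab hs ha h1 h2 h3 (hA θ hθ.1) (hA θ' hθ'.1) hθ.2 hθ'.2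
  have hle : ∀ θ : IrrCharacter K, Nat.card (stabAct hK (θ : K → ℂ)) ≤ w := by
    intro θ
    have h := card_stabAct_mul_card_orb hK hP θ.2
    rw [hw] at h
    exact Nat.le_of_dvd hw0 (h ▸ dvd_mul_right _ _)
  have hle3 : ∀ θ : IrrCharacter K, tw (θ : K → ℂ) s ≠ θ → Nat.card (stabAct hK (θ : K → ℂ)) ≤ w / 3 := by
    intro θ hθ
    have h := card_stabAct_mul_card_orb hK hP θ.2
    rw [hw] at h
    have h4 := three_le_orb hK hs (hsK θ) hθ
    rw [Nat.le_div_iff_mul_le (by norm_num), ← h]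
    exact Nat.mul_le_mul_left _ h4
  have hsplit : ∑ θ ∈ A, (Nat.card (stabAct hK (θ : K → ℂ)) ^ 2 + (p - 1)) ≤
      B.card * (w ^ 2 + (p - 1)) + (A.card - B.card) * ((w / 3) ^ 2 + (p - 1)) := by
    rw [← sum_filter_add_sum_filter_not A (fun θ : IrrCharacter K => tw (θ : K → ℂ) s = (θ : K → ℂ))]
    refine Nat.add_le_add ?_ ?_
    · calc _ ≤ ∑ _θ ∈ B, (w ^ 2 + (p - 1)) :=
            sum_le_sum fun θ _ => Nat.add_le_add_right (Nat.pow_le_pow_left (hle θ) 2) _
        _ = _ := by rw [sum_const, smul_eq_mul]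
    · have hc : (A.filter fun θ : IrrCharacter K => ¬ tw (θ : K → ℂ) s = (θ : K → ℂ)).card = A.card - B.card := by
        have h5 := Finset.card_filter_add_card_filter_not (s := A) (fun θ : IrrCharacter K => tw (θ : K → ℂ) s = (θ : K → ℂ))
        exact (Nat.sub_eq_of_eq_add (by rw [add_comm]; exact h5.symm)).symm
      calc _ ≤ ∑ _θ ∈ A.filter (fun θ : IrrCharacter K => ¬ tw (θ : K → ℂ) s = (θ : K → ℂ)), ((w / 3) ^ 2 + (p - 1)) :=
            sum_le_sum fun θ hθ => Nat.add_le_add_right (Nat.pow_le_pow_left (hle3 θ (mem_filter.1 hθ).2) 2) _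
        _ = _ := by rw [sum_const, smul_eq_mul, hc]
  refine hsplit.trans ?_
  have hBA : B.card ≤ A.card := Finset.card_le_card (Finset.filter_subset _ _)
  have hmono : (w / 3) ^ 2 + (p - 1) ≤ w ^ 2 + (p - 1) :=
    Nat.add_le_add_right (Nat.pow_le_pow_left (Nat.div_le_self _ _) 2) _
  generalize (w / 3) ^ 2 + (p - 1) = m at *
  generalize w ^ 2 + (p - 1) = M at *
  interval_cases B.card
  · have : A.card - 0 ≤ 4 := by omega
    have h5 := Nat.mul_le_mul_right m this
    omega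
  · have : A.card - 1 ≤ 3 := by omega
    have h5 := Nat.mul_le_mul_right m this
    omega

end Ab

end Cfsg.Agent.H667.RIM
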