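import Cfsg.Agent.H667.RIM.Four

/-!
# S4816: defect zero over a central character, the statements for `|ker| = 2`

* `GoodT` : elements of odd order, or with a cyclic centralizer (in `⟨t⟩`);
* `exists_of_lt` : the simple bound; `exists_four` : the complement has order `4` modulo the kernel.
-/

set_option autoImplicit false
set_option linter.unusedSectionVars false

namespace Cfsg.Agent.H667.RIM

open Cfsg Subgroup Finset
open Cfsg.Agent.Characters.Core
open Cfsg.Agent.SmallSimple.ThetaSetup Cfsg.Agent.SmallSimple.ThetaOrtho Cfsg.Agent.SmallSimple.ThetaCount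
open Cfsg.Agent.SmallSimple.TheoremC Cfsg.Agent.SmallSimple.TheoremCCor
open Cfsg.Agent.SmallSimple.SingularCount
open Cfsg.Agent.H622.Over Cfsg.Agent.H849.RIM
open scoped ComplexConjugate

universe u v

/-- odd order, or cyclic centralizer -/
def GoodT {S : Type v} [Group S] (g : S) : Prop :=
  Odd (orderOf g) ∨ ∃ t, g ∈ zpowers t ∧ ∀ x, x * g = g * x → x ∈ zpowers t

variable {G : Type u} [Group G] [Finite G] {p : ℕ} [Fact p.Prime] {S : Type v} [Group S] {σ : G →* S}

theorem good_of_goodT (hσ : Function.Surjective σ) (hZ : σ.ker ≤ center G) (hm : Nat.card σ.ker = 2)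
    (c : σ.ker →* ℂˣ) {g : G} (h : GoodT (σ g)) : Good σ.ker c g := by
  rcases h with h | ⟨t, ht, hc⟩
  · exact good_odd hZ c (by rw [hm]; exact h.coprime_two_right)
  · exact good_cyc hZ hσ c ht hc

theorem exists_F (hσ : Function.Surjective σ) (hZ : σ.ker ≤ center G) (hm : Nat.card σ.ker = 2)
    (c : σ.ker →* ℂˣ) (F : Finset (ConjClasses S)) (hF : ∀ C ∈ F, ∃ g : S, ConjClasses.mk g = C ∧ GoodT g) :
    ∀ C ∈ F, ∃ g : G, ConjClasses.mk (σ g) = C ∧ Good σ.ker c g := by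
  intro C hC
  obtain ⟨x, hx, hg⟩ := hF C hC
  obtain ⟨g, rfl⟩ := hσ x
  exact ⟨g, hx, good_of_goodT hσ hZ hm c hg⟩

theorem sum_le_mul {K : Subgroup G} {P : Sylow p G} (hK : IsComp p (P : Subgroup G) K) (hP : Nat.card P = p) {w : ℕ}
    (hw0 : 0 < w)
    (hw : (centralizer ((P : Subgroup G) : Set G)).relIndex (normalizer ((P : Subgroup G) : Set G)) = w)
    (A : Finset (IrrCharacter K)) {k : ℕ} (hA : A.card ≤ k) :
    ∑ θ ∈ A, (Nat.card (stabAct hK (θ : K → ℂ)) ^ 2 + (p - 1)) ≤ k * (w ^ 2 + (p - 1)) := by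
  have hle : ∀ θ : IrrCharacter K, Nat.card (stabAct hK (θ : K → ℂ)) ≤ w := by
    intro θ
    have h := card_stabAct_mul_card_orb hK hP θ.2
    rw [hw] at h
    exact Nat.le_of_dvd hw0 (h ▸ dvd_mul_right _ _)
  calc _ ≤ ∑ _θ ∈ A, (w ^ 2 + (p - 1)) :=
        sum_le_sum fun θ _ => Nat.add_le_add_right (Nat.pow_le_pow_left (hle θ) 2) _
    _ = A.card * (w ^ 2 + (p - 1)) := by rw [sum_const, smul_eq_mul]
    _ ≤ _ := Nat.mul_le_mul_right _ hA

/-- **The simple bound.** -/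
theorem exists_of_lt (hσ : Function.Surjective σ) (hZ : σ.ker ≤ center G) (hm : Nat.card σ.ker = 2) (hp2 : p ≠ 2)
    (hsq : ¬ p ^ 2 ∣ Nat.card S) {y : S} (hy : orderOf y = p) {k w : ℕ} (hw0 : 0 < w)
    (hC : Nat.card (centralizer ({y} : Set S)) = p * k)
    (hN : Nat.card (normalizer ((zpowers y : Subgroup S) : Set S)) = w * (p * k)) (c : σ.ker →* ℂˣ)
    (F : Finset (ConjClasses S)) (hF : ∀ C ∈ F, ∃ g : S, ConjClasses.mk g = C ∧ GoodT g)
    (hlt : k * (w ^ 2 + (p - 1)) < w * F.card) :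
    ∃ χ : IrrCharacter G, Lies σ.ker c (χ : G → ℂ) ∧ p ∣ charDegree (χ : G → ℂ) := by
  classical
  have hp : p.Prime := Fact.out
  have hZp : ¬ p ∣ Nat.card σ.ker := by
    rw [hm]
    intro h
    exact hp2 ((Nat.prime_dvd_prime_iff_eq hp Nat.prime_two).1 h)
  obtain ⟨P, K, hK, hP, hcK, hZK, hw, -, -⟩ := setup hσ hZ hZp hsq hy hC hN
  by_contra hno
  push Not at hno
  have := finite_irr (G := K)
  have := Fintype.ofFinite (IrrCharacter K)
  set A : Finset (IrrCharacter K) := Finset.univ.filter fun θ : IrrCharacter K => LiesK σ.ker c K (θ : K → ℂ) with hAd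
  have hA : ∀ θ ∈ A, LiesK σ.ker c K (θ : K → ℂ) := fun θ hθ => (mem_filter.1 hθ).2
  have hA' : ∀ θ : IrrCharacter K, LiesK σ.ker c K (θ : K → ℂ) → θ ∈ A := fun θ hθ => mem_filter.2 ⟨mem_univ _, hθ⟩
  have h1 := main_le hK hP hσ hZ hZK hw A hA' hno F (exists_F hσ hZ hm c F hF)
  have h2 := sum_le_mul hK hP hw0 hw A (card_liesK_le hZ hZK c hcK A hA)
  exact absurd (h1.trans h2) (not_le.2 hlt)

/-- **The complement has order `4` modulo the kernel.** -/
theorem exists_four (hσ : Function.Surjective σ) (hZ : σ.ker ≤ center G) (hm : Nat.card σ.ker = 2) (hp2 : p ≠ 2)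
    (hsq : ¬ p ^ 2 ∣ Nat.card S) {y : S} (hy : orderOf y = p) {w : ℕ} (hw0 : 0 < w)
    (hC : Nat.card (centralizer ({y} : Set S)) = p * 4)
    (hN : Nat.card (normalizer ((zpowers y : Subgroup S) : Set S)) = w * (p * 4)) {c : σ.ker →* ℂˣ}
    (hc : Function.Injective c) {s a : S} (hs : s ∈ normalizer ((zpowers y : Subgroup S) : Set S)) (hs3 : s ^ 3 = 1)
    (ha : a ∈ centralizer ({y} : Set S)) (ha2 : a ^ 2 = 1) (h1 : a ≠ 1) (h2 : s * a * s⁻¹ ≠ a)
    (h3 : s * (s * a * s⁻¹) * s⁻¹ = a * (s * a * s⁻¹))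
    (F : Finset (ConjClasses S)) (hF : ∀ C ∈ F, ∃ g : S, ConjClasses.mk g = C ∧ GoodT g)
    (hlt : w ^ 2 + (p - 1) < w * F.card)
    (F' : Finset (ConjClasses S)) (hF' : ∀ C ∈ F', ∃ g : S, ConjClasses.mk g = C ∧ (GoodT g ∨ ∃ i : ℕ, g ^ i = y))
    (hlt' : (w ^ 2 + (p - 1)) + 3 * ((w / 3) ^ 2 + (p - 1)) < w * F'.card) :
    ∃ χ : IrrCharacter G, Lies σ.ker c (χ : G → ℂ) ∧ p ∣ charDegree (χ : G → ℂ) := by
  classical
  have hp : p.Prime := Fact.out
  have hZp : ¬ p ∣ Nat.card σ.ker := by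
    rw [hm]
    intro h
    exact hp2 ((Nat.prime_dvd_prime_iff_eq hp Nat.prime_two).1 h)
  obtain ⟨P, K, hK, hP, hcK, hZK, hw, hCe, hNe⟩ := setup hσ hZ hZp hsq hy hC hN
  by_contra hno
  push Not at hno
  have := finite_irr (G := K)
  have := Fintype.ofFinite (IrrCharacter K)
  set A : Finset (IrrCharacter K) := Finset.univ.filter fun θ : IrrCharacter K => LiesK σ.ker c K (θ : K → ℂ) with hAd
  have hA : ∀ θ ∈ A, LiesK σ.ker c K (θ : K → ℂ) := fun θ hθ => (mem_filter.1 hθ).2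
  have hA' : ∀ θ : IrrCharacter K, LiesK σ.ker c K (θ : K → ℂ) → θ ∈ A := fun θ hθ => mem_filter.2 ⟨mem_univ _, hθ⟩
  by_cases hab : ∀ x y : K, x * y = y * x
  · -- abelian
    obtain ⟨s', rfl⟩ := hσ s
    obtain ⟨a', rfl⟩ := hσ a
    have hs' : s' ∈ normalizer ((P : Subgroup G) : Set G) := by rw [hNe]; exact hs
    have haK : a' ∈ K := by
      rw [hK]
      refine ⟨?_, fun h => ?_⟩
      · rw [hCe]; exact ha
      · have h4 : a' ^ (2 * 2) = 1 := by
          have h5 : a' ^ 2 ∈ σ.ker := by rw [MonoidHom.mem_ker, map_pow, ha2]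
          have h6 := pow_card_eq_one' (G := σ.ker) (x := ⟨a' ^ 2, h5⟩)
          rw [hm] at h6
          rw [pow_mul]
          exact congrArg Subtype.val h6
        have h5 := h.trans (orderOf_dvd_of_pow_eq_one h4)
        rcases hp.dvd_mul.1 h5 with h6 | h6
        · exact hp2 ((Nat.prime_dvd_prime_iff_eq hp Nat.prime_two).1 h6)
        · exact hp2 ((Nat.prime_dvd_prime_iff_eq hp Nat.prime_two).1 h6)
    -- the centralizer is abelian
    have hCab : ∀ x ∈ centralizer ((P : Subgroup G) : Set G), ∀ z ∈ centralizer ((P : Subgroup G) : Set G),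
        x * z = z * x := by
      have hcyc : IsCyclic P := isCyclic_of_prime_card hP
      have hPab : ∀ x z : P, x * z = z * x := (IsCyclic.isMulCommutative (α := P)).is_comm.comm
      have hprod : ∀ x z : P × K, x * z = z * x := fun x z => Prod.ext (hPab _ _) (hab _ _)
      intro x hx z hz
      have e := prodEquiv hK hP
      have h4 : (⟨x, hx⟩ : centralizer ((P : Subgroup G) : Set G)) * ⟨z, hz⟩ = ⟨z, hz⟩ * ⟨x, hx⟩ := by
        have h5 := congrArg e (hprod (e.symm ⟨x, hx⟩) (e.symm ⟨z, hz⟩))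
        simpa using h5
      exact congrArg Subtype.val h4
    have hFg : ∀ C ∈ F', ∃ g : G, ConjClasses.mk (σ g) = C ∧ Good σ.ker c g := by
      intro C hC'
      obtain ⟨x, hx, hg⟩ := hF' C hC'
      obtain ⟨g, rfl⟩ := hσ x
      refine ⟨g, hx, ?_⟩
      rcases hg with hg | ⟨i, hi⟩
      · exact good_of_goodT hσ hZ hm c hg
      · apply good_of_comm
        intro x hx
        refine hCab x ?_ g ?_
        · rw [hCe, mem_comap, mem_centralizer_singleton_iff, ← hi]
          exact (Commute.pow_right (show Commute (σ x) (σ g) from hx) i).eq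
        · rw [hCe, mem_comap, mem_centralizer_singleton_iff, ← hi]
          exact (Commute.pow_right (Commute.refl (σ g)) i).eq
    have h4 := main_le hK hP hσ hZ hZK hw A hA' hno F' hFg
    have h5 := sum_le_ab hK hP hσ hZ hZK hcK hab hw0 hw hs' hs3 haK h1 h2 h3 A hA
    exact absurd (h4.trans h5) (not_le.2 hlt')
  · have h4 := main_le hK hP hσ hZ hZK hw A hA' hno F (exists_F hσ hZ hm c F hF)
    have h5 := sum_le_mul hK hP hw0 hw A (card_le_one hZ hZK hc hcK hab A hA)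
    rw [one_mul] at h5
    exact absurd (h4.trans h5) (not_le.2 hlt)

/-- the form of the rows -/
theorem nb_of {S : Type u} [Group S] {p : ℕ}
    (h : ∀ (G : Type u) [Group G] [Finite G] (σ : G →* S), Function.Surjective σ → σ.ker ≤ center G →
      Nat.card σ.ker = 2 → ∀ c : σ.ker →* ℂˣ, Function.Injective c →
        ∃ χ : IrrCharacter G, Lies σ.ker c (χ : G → ℂ) ∧ p ∣ charDegree (χ : G → ℂ)) :
    Cfsg.Agent.H665.RIM.NB p 2 S := by
  intro E _ _ π hπ hk _ hcard l hl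
  obtain ⟨χ, h1, h2⟩ := h E π hπ hk hcard l hl
  refine ⟨(χ : E → ℂ), χ.2, fun z => ?_, h2⟩
  have h3 := h1 1 z
  rwa [one_mul] at h3

end Cfsg.Agent.H667.RIM
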